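import Groth.Agent.L24.Boot.LqfEtale
import Groth.Agent.L23.AlgSpace
import Groth.Agent.L23.LocalDimEtale

/-!
Every field valued point of an algebraic space lifts to a point of an affine etale chart.
-/

set_option autoImplicit false
set_option backward.isDefEq.respectTransparency false
set_option backward.isDefEq.respectTransparency.types false

universe u

open CategoryTheory CategoryTheory.Limits AlgebraicGeometry Opposite AlgSp

noncomputable section

namespace Groth.L24.Hensel

open Groth.L24.Boot

variable {S : Scheme.{u}} {F : Sp S} {U : Over S} {p : (yon S).obj U ⟶ F}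

/-- An etale atlas has charts. -/
theorem hasCharts_of_atlas (he : RepWith @Etale p) (hs : RepWith @Surjective p)
    {P : MorphismProperty Scheme.{u}}
    (hP : ∀ {X Y : Scheme.{u}} (f : X ⟶ Y) [Etale f] [Surjective f], P f) : HasCharts P p := fun T ξ => by
  have sq := he.1.isPullback ξ
  have : Etale (he.1.snd ξ).left := Groth.L23.repWith_prop he sq
  have : Surjective (he.1.snd ξ).left := Groth.L23.repWith_prop hs sq
  obtain ⟨α, hα⟩ := (yon S).map_surjective (he.1.fst ξ)
  have w : (yon S).map (he.1.snd ξ) ≫ ξ = (yon S).map α ≫ p := by rw [hα, sq.w]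
  have e : pullback.lift ((yon S).map (he.1.snd ξ)) ((yon S).map α) w = sq.flip.isoPullback.hom := by
    apply pullback.hom_ext <;> simp [hα]
  exact ⟨⟨_, he.1.snd ξ, α, w, by rw [e]; exact Groth.L23.repWith_of_isIso _,
    by rw [e]; exact Groth.L23.repWith_of_isIso _⟩, hP _⟩

/-- A map with etale charts is etale. -/
theorem repWith_etale_of_hasCharts (hr : Representable p) (h : HasCharts (@Etale ⊓ @Surjective) p) :
    RepWith @Etale p := by
  refine Groth.L23.repWith_of_snd hr fun T ξ => ?_
  obtain ⟨c, hce, -⟩ := h ξ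
  let i := (hr.isPullback ξ).flip.isoPullback
  obtain ⟨k, hk⟩ := (yon S).map_surjective
    (pullback.lift ((yon S).map c.a) ((yon S).map c.α) c.w ≫ i.inv)
  have hke : RepWith @Etale ((yon S).map k) := by
    rw [hk]; exact (MorphismProperty.cancel_right_of_respectsIso (RepWith @Etale) _ _).2 c.etale
  have hks : RepWith @Surjective ((yon S).map k) := by
    rw [hk]; exact (MorphismProperty.cancel_right_of_respectsIso (RepWith @Surjective) _ _).2 c.surj
  have : Etale k.left := (repWith_yon_map_iff _ _).1 hke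
  have : Surjective k.left := (repWith_yon_map_iff _ _).1 hks
  have e : k ≫ hr.snd ξ = c.a := (yon S).map_injective (by
    rw [Functor.map_comp, hk, Category.assoc]
    simp [i])
  have e' : k.left ≫ (hr.snd ξ).left = c.a.left := congrArg CommaMorphism.left e
  exact Groth.L23.etale_of_etale_comp' k.left _ (by rw [e']; exact hce)

/-- An etale chart through which all field valued points lift rationally. -/
theorem exists_etale_cover_lift_fields (hX : IsAlgSpace F) :
    ∃ (V : Over S) (η : (yon S).obj V ⟶ F), RepWith @Etale η ∧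
      ∀ (K : Type u) [Field K] {TK : Over S} (_ : Spec (CommRingCat.of K) ≅ TK.left)
        (ξ : (yon S).obj TK ⟶ F), ∃ o : TK ⟶ V, (yon S).map o ≫ η = ξ := by
  obtain ⟨U, p, he, hs⟩ := hX.atlas
  have h : HasCharts (@Flat ⊓ @LocallyQuasiFinite ⊓ @LocallyOfFinitePresentation ⊓ @Surjective) p :=
    hasCharts_of_atlas he hs fun f _ _ =>
      ⟨⟨⟨inferInstance, Groth.L23.lqf_of_etale f⟩, inferInstance⟩, inferInstance⟩
  obtain ⟨D⟩ := exists_sigma fun i : PieceIdx h => (pieceOf h i).O
  obtain ⟨η, hη⟩ := exists_glue_sigma D fun i => (pieceOf h i).ξ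
  have hηe : RepWith @Etale η := repWith_etale_of_hasCharts (hX.representable_from_yon η)
    (hasCharts_of_piecePres (piecePres_of_sigma h D η hη))
  refine ⟨D.V, η, hηe, fun K _ TK iT ξ => ?_⟩
  obtain ⟨A, α, a, sq⟩ := Groth.L23.exists_isPullback_of_representable (hX.representable_from_yon p) ξ
  have : Surjective a.left := Groth.L23.repWith_prop hs sq
  obtain ⟨x, -⟩ := a.left.surjective (iT.hom default)
  obtain ⟨_, ⟨B, hB, rfl⟩, hxB, -⟩ := U.left.isBasis_affineOpens.exists_subset_of_mem_open
    (Set.mem_univ (α.left x)) isOpen_univ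
  obtain ⟨L, _, _, TL, iL, g, hg⟩ := exists_geom_point x
  obtain ⟨s, hsB⟩ := exists_lift_point iL (Groth.L23.openOverι U B) (g ≫ α) ⟨_, hxB⟩ (by
    rw [Over.comp_left, Scheme.Hom.comp_apply, hg]; rfl)
  have : IsAffine (Groth.L23.openOver U B).left := hB
  have hB' := repWith_openPiece h B hB
  have hz := (hB'.1.isPullback ξ)
  obtain ⟨z, -⟩ := (yon S).map_surjective (hz.lift ((yon S).map s) ((yon S).map (g ≫ a)) (by
    rw [← Functor.map_comp_assoc, hsB, Functor.map_comp, Functor.map_comp, Category.assoc, Category.assoc, sq.w]))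
  obtain ⟨d, b, R', hR', hpc⟩ := exists_piece_fibrePoint hB' iT ξ (z.left (iL.hom default))
  let i : PieceIdx h := ⟨⟨B, hB⟩, d, b, R', hR'⟩
  obtain ⟨o, ho⟩ := hpc (pieceOf h i)
  exact ⟨o ≫ D.inj i, by rw [Functor.map_comp_assoc, hη, ho]⟩

/-- The coproduct of affine schemes is separated. -/
theorem isSeparated_sigma_affine {I : Type u} (A : I → Scheme.{u}) [∀ i, IsAffine (A i)] :
    (∐ A).IsSeparated := by
  constructor
  rw [Subsingleton.elim (terminal.from (∐ A))
    (((Limits.Sigma.mapIso (fun i => (A i).isoSpec)).hom ≫ sigmaSpec fun i => Γ(A i, ⊤)) ≫ terminal.from _)]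
  infer_instance

/-- A separated etale chart, a disjoint union of affine schemes, through which all field valued points lift. -/
theorem exists_affines_lift_fields (hX : IsAlgSpace F) :
    ∃ (I : Type u) (A : I → Over S) (q : ∀ i, (yon S).obj (A i) ⟶ F),
      (∀ i, IsAffine (A i).left) ∧ (∀ i, RepWith @Etale (q i)) ∧
      ∀ (K : Type u) [Field K] {TK : Over S} (_ : Spec (CommRingCat.of K) ≅ TK.left)
        (ξ : (yon S).obj TK ⟶ F), ∃ (i : I) (g : TK ⟶ A i), (yon S).map g ≫ q i = ξ := by
  obtain ⟨V, η, hη, hlift⟩ := exists_etale_cover_lift_fields hX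
  refine ⟨V.left.affineOpens, fun O => Groth.L23.openOver V O.1,
    fun O => (yon S).map (Groth.L23.openOverι V O.1) ≫ η, fun O => O.2, fun O =>
      Groth.L23.repWith_comp (Groth.L23.repWith_map
        (inferInstanceAs (Etale (Groth.L23.openOverι V O.1).left))) hη, fun K _ TK iT ξ => ?_⟩
  obtain ⟨o, ho⟩ := hlift K iT ξ
  obtain ⟨_, ⟨O, hO, rfl⟩, hoO, -⟩ := V.left.isBasis_affineOpens.exists_subset_of_mem_open
    (Set.mem_univ (o.left (iT.hom default))) isOpen_univ
  obtain ⟨l, hl⟩ := exists_lift_point iT (Groth.L23.openOverι V O) o ⟨_, hoO⟩ rfl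
  exact ⟨⟨O, hO⟩, l, by rw [← Functor.map_comp_assoc, hl, ho]⟩

/-- Every field valued point of an algebraic space lifts to a rational point of an affine etale chart. -/
theorem exists_etale_lift_field (hX : IsAlgSpace F) {K : Type u} [Field K] {TK : Over S}
    (iT : Spec (CommRingCat.of K) ≅ TK.left) (ξ : (yon S).obj TK ⟶ F) :
    ∃ (W : Over S) (q : (yon S).obj W ⟶ F) (g : TK ⟶ W),
      IsAffine W.left ∧ RepWith @Etale q ∧ (yon S).map g ≫ q = ξ := by
  obtain ⟨I, A, q, hA, hq, hlift⟩ := exists_affines_lift_fields hX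
  obtain ⟨i, g, hg⟩ := hlift K iT ξ
  exact ⟨A i, q i, g, hA i, hq i, hg⟩

end Groth.L24.Hensel
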