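import Groth.Agent.L24.Hensel.PointChart
import Groth.Agent.L23.LocP
import Groth.Agent.L05.Hensel.Smooth
import Groth.Agent.S0528
import Mathlib.RingTheory.Henselian

/-!
Lifting of points of algebraic spaces over henselian local rings.
-/

set_option autoImplicit false
set_option backward.isDefEq.respectTransparency false
set_option backward.isDefEq.respectTransparency.types false

universe u

open CategoryTheory CategoryTheory.Limits AlgebraicGeometry Opposite AlgSp

noncomputable section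

namespace Groth.L24.Hensel

variable {R : Type u} [CommRing R]

/-- A proper ideal of a henselian local ring gives a henselian pair. -/
theorem henselianRing_of_ne_top [HenselianLocalRing R] {a : Ideal R} (ha : a ≠ ⊤) : HenselianRing R a :=
  ((Groth.Agent.S0528.result R a (IsLocalRing.maximalIdeal R) (IsLocalRing.le_maximalIdeal ha)).1
    inferInstance).1

/-- A point modulo a henselian ideal of a local ring on a smooth scheme extends to a section. -/
theorem exists_section_of_smooth [IsLocalRing R] {a : Ideal R} [HenselianRing R a] (ha : a ≠ ⊤) {X : Scheme.{u}}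
    (g : X ⟶ Spec (CommRingCat.of R)) [Smooth g] (x₀ : Spec (CommRingCat.of (R ⧸ a)) ⟶ X)
    (hx : x₀ ≫ g = Spec.map (CommRingCat.ofHom (Ideal.Quotient.mk a))) :
    ∃ x : Spec (CommRingCat.of R) ⟶ X, x ≫ g = 𝟙 _ ∧
      Spec.map (CommRingCat.ofHom (Ideal.Quotient.mk a)) ≫ x = x₀ := by
  have : Nontrivial (R ⧸ a) := Ideal.Quotient.nontrivial_iff.2 ha
  have : IsLocalRing (R ⧸ a) := IsLocalRing.of_surjective' _ Ideal.Quotient.mk_surjective
  obtain ⟨_, ⟨(V : X.Opens), hV, rfl⟩, hcV, -⟩ := X.isBasis_affineOpens.exists_subset_of_mem_open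
    (Set.mem_univ (x₀ (IsLocalRing.closedPoint (R ⧸ a)))) isOpen_univ
  have hrange : Set.range x₀ ⊆ Set.range V.ι := by
    rintro _ ⟨y, rfl⟩
    rw [Scheme.Opens.range_ι]
    exact ((IsLocalRing.specializes_closedPoint y).map x₀.continuous).mem_open V.2 hcV
  have : IsAffine V.toScheme := hV
  let l := IsOpenImmersion.lift V.ι x₀ hrange
  have hl : l ≫ V.ι = x₀ := IsOpenImmersion.lift_fac _ _ _
  obtain ⟨φ, hφ⟩ := Spec.map_surjective (V.toScheme.isoSpec.inv ≫ V.ι ≫ g)
  obtain ⟨σ, hσ⟩ := Spec.map_surjective (l ≫ V.toScheme.isoSpec.hom)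
  have : Smooth (Spec.map φ) := by rw [hφ]; infer_instance
  have hsm : φ.hom.Smooth := (HasRingHomProperty.Spec_iff (P := @Smooth)).1 this
  algebraize [φ.hom]
  have hcomp : φ ≫ σ = CommRingCat.ofHom (Ideal.Quotient.mk a) := Spec.map_injective (by
    rw [Spec.map_comp, hσ, hφ, Category.assoc, Iso.hom_inv_id_assoc, reassoc_of% hl, hx])
  let σ' : Γ(V.toScheme, ⊤) →ₐ[R] R ⧸ a := ⟨σ.hom, fun r => congr($(hcomp) r)⟩
  obtain ⟨τ, hτ⟩ := Groth.L05.exists_algHom_lift_smooth a σ'
  refine ⟨Spec.map (CommRingCat.ofHom τ.toRingHom) ≫ V.toScheme.isoSpec.inv ≫ V.ι, ?_, ?_⟩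
  · rw [Category.assoc, Category.assoc, ← hφ, ← Spec.map_comp, ← Spec.map_id]
    congr 1
    ext r
    exact τ.commutes r
  · rw [← Spec.map_comp_assoc, show CommRingCat.ofHom τ.toRingHom ≫ CommRingCat.ofHom (Ideal.Quotient.mk a) = σ from
      CommRingCat.hom_ext (congrArg AlgHom.toRingHom hτ), hσ, Category.assoc, Iso.hom_inv_id_assoc, hl]

variable {S : Scheme.{u}} (str : Spec (CommRingCat.of R) ⟶ S)

/-- The closed subscheme of the base cut out by an ideal. -/
abbrev quotOver (a : Ideal R) : Over S :=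
  Over.mk (Spec.map (CommRingCat.ofHom (Ideal.Quotient.mk a)) ≫ str)

/-- The inclusion of a closed subscheme of the base. -/
abbrev quotHom (a : Ideal R) : quotOver str a ⟶ Over.mk str :=
  Over.homMk (Spec.map (CommRingCat.ofHom (Ideal.Quotient.mk a))) rfl

variable {str} [HenselianLocalRing R]

/-- Sections over a smooth scheme, in the category of schemes over the base. -/
theorem exists_section_over {a : Ideal R} (ha : a ≠ ⊤) {W : Over S} (h : W ⟶ Over.mk str) [Smooth h.left]
    (w₀ : quotOver str a ⟶ W) (hw : w₀ ≫ h = quotHom str a) :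
    ∃ w : Over.mk str ⟶ W, w ≫ h = 𝟙 _ ∧ quotHom str a ≫ w = w₀ := by
  have := henselianRing_of_ne_top ha
  obtain ⟨x, hx₁, hx₂⟩ := exists_section_of_smooth ha h.left w₀.left (congrArg CommaMorphism.left hw)
  let w : Over.mk str ⟶ W := Over.homMk x (by
    show x ≫ W.hom = str
    rw [← Over.w h, ← Category.assoc, hx₁, Category.id_comp]; rfl)
  exact ⟨w, Over.OverMorphism.ext hx₁, Over.OverMorphism.ext hx₂⟩

/-- The residue point. -/
theorem maximalIdeal_ne_top : IsLocalRing.maximalIdeal R ≠ ⊤ :=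
  Ideal.IsMaximal.ne_top inferInstance

/-- A field valued point of a space smooth over a henselian local scheme extends to a section. -/
theorem exists_section_of_locP_smooth {F : Sp S} (hF : IsAlgSpace F) (π : F ⟶ (yon S).obj (Over.mk str))
    (hπ : LocP @Smooth π) (z₀ : (yon S).obj (quotOver str (IsLocalRing.maximalIdeal R)) ⟶ F)
    (hz : z₀ ≫ π = (yon S).map (quotHom str (IsLocalRing.maximalIdeal R))) :
    ∃ z : (yon S).obj (Over.mk str) ⟶ F, z ≫ π = 𝟙 _ ∧
      (yon S).map (quotHom str (IsLocalRing.maximalIdeal R)) ≫ z = z₀ := by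
  obtain ⟨W, q, g, -, hq, hg⟩ :=
    exists_etale_lift_field (K := IsLocalRing.ResidueField R) hF (Iso.refl _) z₀
  obtain ⟨h, hh⟩ := (yon S).map_surjective (q ≫ π)
  have hsm : Smooth h.left := hπ q (𝟙 _) h hq (repWith_id _ _) (by rw [hh, Category.comp_id])
  obtain ⟨w, hw₁, hw₂⟩ := exists_section_over maximalIdeal_ne_top h g ((yon S).map_injective (by
    rw [Functor.map_comp, hh, ← Category.assoc, hg, hz]))
  refine ⟨(yon S).map w ≫ q, ?_, ?_⟩
  · rw [Category.assoc, ← hh, ← Functor.map_comp, hw₁, (yon S).map_id]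
  · rw [← Functor.map_comp_assoc, hw₂, hg]

/-- Points modulo the maximal ideal of the source of a smooth map lift along points of the target. -/
theorem exists_lift_of_locP_smooth {Z X : Sp S} (hZ : IsAlgSpace Z) (hX : IsAlgSpace X) (f : Z ⟶ X)
    (hf : LocP @Smooth f) (z : (yon S).obj (Over.mk str) ⟶ X)
    (z₀ : (yon S).obj (quotOver str (IsLocalRing.maximalIdeal R)) ⟶ Z)
    (w : z₀ ≫ f = (yon S).map (quotHom str (IsLocalRing.maximalIdeal R)) ≫ z) :
    ∃ z' : (yon S).obj (Over.mk str) ⟶ Z, z' ≫ f = z ∧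
      (yon S).map (quotHom str (IsLocalRing.maximalIdeal R)) ≫ z' = z₀ := by
  have sq := IsPullback.of_hasPullback f z
  obtain ⟨s, hs₁, hs₂⟩ := exists_section_of_locP_smooth
    (Groth.L23.isAlgSpace_of_isPullback hX.diag hZ (IsAlgSpace.yon_obj _) sq) (pullback.snd f z)
    (Groth.L23.locP_of_isPullback Groth.L23.etLocal_smooth hZ hX (IsAlgSpace.yon_obj _) sq hf)
    (pullback.lift z₀ ((yon S).map (quotHom str (IsLocalRing.maximalIdeal R))) w) (pullback.lift_snd _ _ _)
  refine ⟨s ≫ pullback.fst f z, ?_, ?_⟩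
  · rw [Category.assoc, pullback.condition, ← Category.assoc, hs₁, Category.id_comp]
  · rw [← Category.assoc, hs₂, pullback.lift_fst]

/-- A residue point on a smooth scheme over a quotient of a henselian local ring extends to a section. -/
theorem exists_section_of_smooth_quot {a : Ideal R} (ha : a ≠ ⊤) {P : Scheme.{u}}
    (g : P ⟶ Spec (CommRingCat.of (R ⧸ a))) [Smooth g]
    (x₀ : Spec (CommRingCat.of (R ⧸ IsLocalRing.maximalIdeal R)) ⟶ P)
    (hx : x₀ ≫ g = Spec.map (CommRingCat.ofHom (Ideal.Quotient.factor (IsLocalRing.le_maximalIdeal ha)))) :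
    ∃ x : Spec (CommRingCat.of (R ⧸ a)) ⟶ P, x ≫ g = 𝟙 _ ∧
      Spec.map (CommRingCat.ofHom (Ideal.Quotient.factor (IsLocalRing.le_maximalIdeal ha))) ≫ x = x₀ := by
  have hle := IsLocalRing.le_maximalIdeal ha
  have : Nontrivial (R ⧸ a) := Ideal.Quotient.nontrivial_iff.2 ha
  have : IsLocalRing (R ⧸ a) := IsLocalRing.of_surjective' _ Ideal.Quotient.mk_surjective
  let b := (IsLocalRing.maximalIdeal R).map (Ideal.Quotient.mk a)
  have : HenselianRing (R ⧸ a) b :=
    ((Groth.Agent.S0528.result R a (IsLocalRing.maximalIdeal R) hle).1 inferInstance).2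
  let e : (R ⧸ a) ⧸ b ≃+* R ⧸ IsLocalRing.maximalIdeal R := DoubleQuot.quotQuotEquivQuotOfLE hle
  have hb : b ≠ ⊤ := Ideal.Quotient.nontrivial_iff.1 e.toEquiv.nontrivial
  have he : e.symm.toRingHom.comp (Ideal.Quotient.factor hle) = Ideal.Quotient.mk b :=
    Ideal.Quotient.ringHom_ext (RingHom.ext fun r => DoubleQuot.quotQuotEquivQuotOfLE_symm_mk r hle)
  obtain ⟨x, hx₁, hx₂⟩ := exists_section_of_smooth hb g
    (Spec.map (CommRingCat.ofHom e.symm.toRingHom) ≫ x₀) (by
      rw [Category.assoc, hx, ← Spec.map_comp, ← CommRingCat.ofHom_comp, he])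
  refine ⟨x, hx₁, ?_⟩
  have : IsIso (Spec.map (CommRingCat.ofHom e.symm.toRingHom)) :=
    inferInstanceAs (IsIso (Spec.map e.symm.toCommRingCatIso.hom))
  rw [← cancel_epi (Spec.map (CommRingCat.ofHom e.symm.toRingHom)), ← hx₂, ← Spec.map_comp_assoc,
    ← CommRingCat.ofHom_comp, he]

variable (str) in
/-- The closed point inside a closed subscheme of the base. -/
abbrev closedIn {a : Ideal R} (ha : a ≠ ⊤) : quotOver str (IsLocalRing.maximalIdeal R) ⟶ quotOver str a :=
  Over.homMk (Spec.map (CommRingCat.ofHom (Ideal.Quotient.factor (IsLocalRing.le_maximalIdeal ha)))) (by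
    show _ ≫ _ ≫ str = _ ≫ str
    rw [← Category.assoc, ← Spec.map_comp, ← CommRingCat.ofHom_comp, Ideal.Quotient.factor_comp_mk])

/-- Every point modulo an ideal lifts to the chart as soon as its closed point does. -/
theorem exists_lift_of_etale {a : Ideal R} (ha : a ≠ ⊤) {X : Sp S} {W : Over S}
    {q : (yon S).obj W ⟶ X} (hq : RepWith @Etale q) (x : (yon S).obj (quotOver str a) ⟶ X)
    (g₀ : quotOver str (IsLocalRing.maximalIdeal R) ⟶ W)
    (w : (yon S).map g₀ ≫ q = (yon S).map (closedIn str ha) ≫ x) :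
    ∃ g : quotOver str a ⟶ W, (yon S).map g ≫ q = x := by
  obtain ⟨P, α, β, sq⟩ := Groth.L23.exists_isPullback_of_representable hq.1 x
  have : Etale β.left := Groth.L23.repWith_prop hq sq
  obtain ⟨l, hl₁, hl₂⟩ := Groth.L23.exists_lift_yon sq g₀ (closedIn str ha) w
  obtain ⟨s, hs₁, -⟩ := exists_section_of_smooth_quot ha β.left l.left (congrArg CommaMorphism.left hl₂)
  let s' : quotOver str a ⟶ P := Over.homMk s (by
    show s ≫ P.hom = _ ≫ str
    rw [← Over.w β, ← Category.assoc, hs₁, Category.id_comp]; rfl)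
  have hs : s' ≫ β = 𝟙 _ := Over.OverMorphism.ext hs₁
  refine ⟨s' ≫ α, ?_⟩
  rw [Functor.map_comp_assoc, sq.w, ← Functor.map_comp_assoc, hs, (yon S).map_id, Category.id_comp]

end Groth.L24.Hensel
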