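import Groth.Agent.L24.Hensel.Lift
import Mathlib.AlgebraicGeometry.Morphisms.IsIso

/-!
Etale charts lifting all points of the closed subschemes of a henselian local scheme.
-/

set_option autoImplicit false
set_option backward.isDefEq.respectTransparency false
set_option backward.isDefEq.respectTransparency.types false

universe u

open CategoryTheory CategoryTheory.Limits AlgebraicGeometry Opposite AlgSp

noncomputable section

namespace Groth.L24.Hensel

open Groth.L24.Boot

variable {S : Scheme.{u}}

/-- The comparison of a disjoint union with the coproduct of schemes. -/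
theorem isIso_sigmaDesc_inj {I : Type u} {X : I → Over S} (D : SigmaData X) :
    IsIso (Sigma.desc fun i => (D.inj i).left) := by
  rw [isIso_iff_isOpenImmersion_and_surjective]
  refine ⟨isOpenImmersion_sigmaDesc _ (fun i => (D.inj i).left) ?_, ⟨fun t => ?_⟩⟩
  · intro i j h
    refine Set.disjoint_iff_forall_ne.mpr ?_
    rintro _ ⟨x, rfl⟩ _ ⟨y, rfl⟩ e
    exact h (D.disj i j x y e)
  · obtain ⟨i, u, hu⟩ := D.cover t
    refine ⟨Sigma.ι (fun i => (X i).left) i u, ?_⟩
    rw [← Scheme.Hom.comp_apply, Sigma.ι_desc, hu]

/-- A disjoint union of affine schemes is separated over the base. -/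
theorem isSeparated_sigmaData {I : Type u} {X : I → Over S} (D : SigmaData X) (hX : ∀ i, IsAffine (X i).left) :
    IsSeparated D.V.hom := by
  have := isIso_sigmaDesc_inj D
  have := isSeparated_sigma_affine fun i => (X i).left
  have : D.V.left.IsSeparated := ⟨by
    rw [Subsingleton.elim (terminal.from D.V.left) (inv (Sigma.desc fun i => (D.inj i).left) ≫ terminal.from _)]
    infer_instance⟩
  infer_instance

/-- A finite disjoint union of affine schemes is affine. -/
theorem isAffine_sigmaData {I : Type u} [Finite I] {X : I → Over S} (D : SigmaData X)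
    (hX : ∀ i, IsAffine (X i).left) : IsAffine D.V.left := by
  have := isIso_sigmaDesc_inj D
  exact IsAffine.of_isIso (inv (Sigma.desc fun i => (D.inj i).left))

/-- A map out of a disjoint union is etale when its restrictions are. -/
theorem repWith_etale_glue {F : Sp S} (hF : IsAlgSpace F) {I : Type u} {X : I → Over S} (D : SigmaData X)
    {q : (yon S).obj D.V ⟶ F} (hq : ∀ i, RepWith @Etale ((yon S).map (D.inj i) ≫ q)) : RepWith @Etale q := by
  refine Groth.L23.repWith_of_snd (hF.representable_from_yon q) fun T ξ => ?_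
  obtain ⟨α, hα⟩ := (yon S).map_surjective ((hF.representable_from_yon q).fst ξ)
  let β := (hF.representable_from_yon q).snd ξ
  have sq : IsPullback ((yon S).map α) ((yon S).map β) q ξ := by
    rw [hα]; exact (hF.representable_from_yon q).isPullback ξ
  show Etale β.left
  let P := fun i => pullback (D.inj i) α
  let k : (∐ fun i => (P i).left) ⟶ _ := Sigma.desc fun i => (pullback.snd (D.inj i) α).left
  have hi : ∀ i, IsOpenImmersion (pullback.snd (D.inj i) α).left := fun i =>
    MorphismProperty.of_isPullback (P := @IsOpenImmersion)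
      ((IsPullback.of_hasPullback (D.inj i) α).map (Over.forget S)) (D.isOpen i)
  have hk : Etale k := IsZariskiLocalAtSource.sigmaDesc fun i => by have := hi i; infer_instance
  have : Surjective k := ⟨fun t => by
    obtain ⟨i, u, hu⟩ := D.cover (α.left t)
    obtain ⟨w, -, hw⟩ := Scheme.Pullback.exists_preimage_pullback u t hu
    let e := ((IsPullback.of_hasPullback (D.inj i) α).map (Over.forget S)).isoPullback
    refine ⟨Sigma.ι (fun i => (P i).left) i (e.inv w), ?_⟩
    rw [← Scheme.Hom.comp_apply, Sigma.ι_desc]
    exact (congrArg (fun m : Limits.pullback (D.inj i).left α.left ⟶ _ => m w)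
      ((IsPullback.of_hasPullback (D.inj i) α).map (Over.forget S)).isoPullback_inv_snd).trans hw⟩
  refine Groth.L23.etale_of_etale_comp' k β.left ?_
  rw [show k ≫ β.left = Sigma.desc fun i => (pullback.snd (D.inj i) α ≫ β).left from
    Sigma.hom_ext _ _ fun i => by rw [Sigma.ι_desc, ← Category.assoc]; simp only [k, Sigma.ι_desc]; rfl]
  exact IsZariskiLocalAtSource.sigmaDesc fun i => Groth.L23.repWith_prop (hq i)
    (((IsPullback.of_hasPullback (D.inj i) α).map (yon S)).paste_vert sq |> fun h => by
      rw [← Functor.map_comp] at h; exact h)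

variable {R : Type u} [CommRing R] [HenselianLocalRing R] (str : Spec (CommRingCat.of R) ⟶ S)

/-- Points of the chart. -/
theorem exists_lift_quotient_point {X : Sp S} {Z : Over S} (p : (yon S).obj Z ⟶ X) (hp : RepWith @Etale p)
    (hlift : ∀ x₀ : (yon S).obj (quotOver str (IsLocalRing.maximalIdeal R)) ⟶ X,
      ∃ g₀ : quotOver str (IsLocalRing.maximalIdeal R) ⟶ Z, (yon S).map g₀ ≫ p = x₀)
    (a : Ideal R) (x : (yon S).obj (quotOver str a) ⟶ X) :
    ∃ g : quotOver str a ⟶ Z, (yon S).map g ≫ p = x := by
  rcases eq_or_ne a ⊤ with rfl | ha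
  · have : Subsingleton (R ⧸ (⊤ : Ideal R)) := Ideal.Quotient.subsingleton_iff.2 rfl
    have hE : IsEmpty ↥(quotOver str (⊤ : Ideal R)).left := inferInstanceAs (IsEmpty (PrimeSpectrum (R ⧸ (⊤ : Ideal R))))
    have hI := isInitialOfIsEmpty (X := (quotOver str (⊤ : Ideal R)).left)
    exact ⟨Over.homMk (hI.to Z.left) (hI.hom_ext _ _), hom_ext_of_isEmpty hE⟩
  · obtain ⟨g₀, hg₀⟩ := hlift ((yon S).map (closedIn str ha) ≫ x)
    exact exists_lift_of_etale ha hp x g₀ hg₀

end Groth.L24.Hensel
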