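import Groth.Agent.L24.Hensel.Lift

/-!
Points of smooth spaces modulo ideals of a henselian local ring lift.
-/

set_option autoImplicit false
set_option backward.isDefEq.respectTransparency false
set_option backward.isDefEq.respectTransparency.types false

universe u

open CategoryTheory CategoryTheory.Limits AlgebraicGeometry Opposite AlgSp

noncomputable section

namespace Groth.L24.Hensel

variable {S : Scheme.{u}}

/-- Etale charts of a space with a smooth chart over the base are smooth over the base. -/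
theorem smooth_of_etale_chart {X : Sp S} (hX : IsAlgSpace X) {U : Over S} {c : (yon S).obj U ⟶ X}
    [Smooth U.hom] (hc : RepWith @Etale c) (hcs : RepWith @Surjective c) {W : Over S}
    {q : (yon S).obj W ⟶ X} (hq : RepWith @Etale q) : Smooth W.hom := by
  obtain ⟨P, α, β, sq⟩ := Groth.L23.exists_isPullback_of_representable (hX.representable_from_yon c) q
  have : Etale β.left := Groth.L23.repWith_prop hc sq
  have : Surjective β.left := Groth.L23.repWith_prop hcs sq
  have : Etale α.left := Groth.L23.repWith_prop hq sq.flip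
  refine Groth.L23.etLocal_smooth.source β.left W.hom inferInstance inferInstance ?_
  rw [Over.w β, ← Over.w α]
  infer_instance

/-- The sheaf of the base is final. -/
def isTerminalYonBase (S : Scheme.{u}) : IsTerminal ((yon S).obj (Over.mk (𝟙 S))) :=
  Over.mkIdTerminal.isTerminalObj (yon S) _

variable {R : Type u} [CommRing R] [HenselianLocalRing R] {str : Spec (CommRingCat.of R) ⟶ S}

theorem exists_lift_quotient_of_smooth_cover {X : Sp S} (hX : IsAlgSpace X)
    (π : X ⟶ (yon S).obj (Over.mk str))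
    (hsm : ∀ {W : Over S} (q : (yon S).obj W ⟶ X) (h : W ⟶ Over.mk str), RepWith @Etale q →
      q ≫ π = (yon S).map h → Smooth h.left)
    {a : Ideal R} (ha : a ≠ ⊤) (x₀ : (yon S).obj (quotOver str a) ⟶ X)
    (hx : x₀ ≫ π = (yon S).map (quotHom str a)) :
    ∃ x : (yon S).obj (Over.mk str) ⟶ X, x ≫ π = 𝟙 _ ∧ (yon S).map (quotHom str a) ≫ x = x₀ := by
  obtain ⟨W, q, g, -, hq, hg⟩ := exists_etale_lift_field (K := IsLocalRing.ResidueField R) hX (Iso.refl _)
    ((yon S).map (closedIn str ha) ≫ x₀)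
  obtain ⟨w₀, hw₀⟩ := exists_lift_of_etale ha hq x₀ g hg
  obtain ⟨h, hh⟩ := (yon S).map_surjective (q ≫ π)
  have := hsm q h hq hh.symm
  obtain ⟨w, hw₁, hw₂⟩ := exists_section_over ha h w₀ ((yon S).map_injective (by
    rw [Functor.map_comp, hh, ← Category.assoc, hw₀, hx]))
  refine ⟨(yon S).map w ≫ q, ?_, ?_⟩
  · rw [Category.assoc, ← hh, ← Functor.map_comp, hw₁, (yon S).map_id]
  · rw [← Functor.map_comp_assoc, hw₂, hw₀]

/-- Points modulo ideals of a smooth space over a henselian local scheme lift to sections. -/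
theorem exists_lift_quotient_of_smooth_chart {X : Sp (Spec (CommRingCat.of R))} (hX : IsAlgSpace X)
    {U : Over (Spec (CommRingCat.of R))} {c : (yon _).obj U ⟶ X} [Smooth U.hom] (hc : RepWith @Etale c)
    (hcs : RepWith @Surjective c) {a : Ideal R} (ha : a ≠ ⊤)
    (x₀ : (yon _).obj (Over.mk (Spec.map (CommRingCat.ofHom (Ideal.Quotient.mk a)))) ⟶ X) :
    ∃ x : (yon _).obj (Over.mk (𝟙 (Spec (CommRingCat.of R)))) ⟶ X,
      (yon _).map (Over.homMk (Spec.map (CommRingCat.ofHom (Ideal.Quotient.mk a))) (Category.comp_id _) :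
        Over.mk (Spec.map (CommRingCat.ofHom (Ideal.Quotient.mk a))) ⟶ Over.mk (𝟙 _)) ≫ x = x₀ := by
  let i : quotOver (𝟙 (Spec (CommRingCat.of R))) a ⟶ Over.mk (Spec.map (CommRingCat.ofHom (Ideal.Quotient.mk a))) :=
    Over.homMk (𝟙 _) (by show 𝟙 _ ≫ Spec.map _ = Spec.map _ ≫ 𝟙 _; simp)
  let j : Over.mk (Spec.map (CommRingCat.ofHom (Ideal.Quotient.mk a))) ⟶ quotOver (𝟙 (Spec (CommRingCat.of R))) a :=
    Over.homMk (𝟙 _) (by show 𝟙 _ ≫ Spec.map _ ≫ 𝟙 _ = Spec.map _; simp)
  let π : X ⟶ (yon _).obj (Over.mk (𝟙 (Spec (CommRingCat.of R)))) :=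
    (isTerminalYonBase (Spec (CommRingCat.of R))).from X
  have hπ : ∀ {A : Sp (Spec (CommRingCat.of R))} (u v : A ⟶ (yon _).obj (Over.mk (𝟙 (Spec (CommRingCat.of R))))),
      u = v := fun u v => (isTerminalYonBase _).hom_ext u v
  obtain ⟨x, -, hx⟩ := exists_lift_quotient_of_smooth_cover hX π (fun q h hq _ => by
    have := smooth_of_etale_chart hX hc hcs hq
    rw [show h.left = _ from (Category.comp_id h.left).symm.trans (Over.w h)]
    exact this) ha ((yon _).map i ≫ x₀) (hπ _ _)
  refine ⟨x, ?_⟩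
  rw [show (Over.homMk (Spec.map (CommRingCat.ofHom (Ideal.Quotient.mk a))) (Category.comp_id _) :
      Over.mk (Spec.map (CommRingCat.ofHom (Ideal.Quotient.mk a))) ⟶ Over.mk (𝟙 _)) = j ≫ quotHom _ a from
    Over.OverMorphism.ext (Category.id_comp _).symm, Functor.map_comp_assoc, hx, ← Functor.map_comp_assoc,
    show j ≫ i = 𝟙 _ from Over.OverMorphism.ext (Category.id_comp _), (yon _).map_id, Category.id_comp]

end Groth.L24.Hensel
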