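import Groth.Agent.L24.Hensel.Lift
import Groth.Agent.L24.St.MonoQcStack

/-!
Lifting points of henselian local schemes along smooth representable maps to stacks.
-/

set_option autoImplicit false
set_option backward.isDefEq.respectTransparency false
set_option backward.isDefEq.respectTransparency.types false

universe u

open CategoryTheory CategoryTheory.Limits AlgebraicGeometry Opposite AlgSt

noncomputable section

namespace Groth.L24.Hensel

open Groth.L24.St

variable {S : Scheme.{u}} {𝒳 : AlgSt.Cat S}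

/-- `overMap` of the identity. -/
def overMapIdIso (U : Over S) : overMap (𝟙 U) ≅ BasedFunctor.id (FibCat.overCat U) :=
  mkIso2 (fun x => Over.isoMk (Iso.refl _) (by show 𝟙 _ ≫ x.hom = x.hom ≫ 𝟙 U; simp))
    (fun x y m => Over.OverMorphism.ext (show m.left ≫ 𝟙 _ = 𝟙 _ ≫ m.left by simp))
    (fun x => OverId.of_eq rfl rfl)

variable {G F : AlgSp.Sp S} {f : ofSp G ⥤ᵇ 𝒳} {U₀ : Over S} {z : FibCat.overCat U₀ ⥤ᵇ 𝒳}
  (e : ofSp F ⥤ᵇ FibCat.fp z f)

/-- The map of the representing space to the source. -/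
def sndMap : F ⟶ G := spMap (BasedFunctor.comp e (FibCat.fpSnd z f))

variable {e}

/-- A lift of the object, given by a point, gives a point of the representing space over it. -/
theorem exists_section_of_point (he : FibCat.IsEquivOver e) {T : Over S} (φ : T ⟶ U₀)
    (g : (AlgSp.yon S).obj T ⟶ G)
    (α : BasedFunctor.comp (BasedFunctor.comp (ofOverCat T) (ofSpMap g)) f ≅ BasedFunctor.comp (overMap φ) z) :
    ∃ σ : (AlgSp.yon S).obj T ⟶ F,
      σ ≫ spMapOfOver (BasedFunctor.comp e (FibCat.fpFst z f)) = (AlgSp.yon S).map φ ∧ σ ≫ sndMap e = g := by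
  obtain ⟨c, -, -, ⟨ic⟩⟩ := exists_inverse he
  let L := FibCat.fpLift (overMap φ) (BasedFunctor.comp (ofOverCat T) (ofSpMap g)) α.symm
  let Ψ : ofSp ((AlgSp.yon S).obj T) ⥤ᵇ ofSp F := BasedFunctor.comp (BasedFunctor.comp (toOverCat T) L) c
  refine ⟨spMap Ψ, ?_, ?_⟩
  · rw [← spMapOfOver_comp,
      show BasedFunctor.comp Ψ (BasedFunctor.comp e (FibCat.fpFst z f)) =
        BasedFunctor.comp (BasedFunctor.comp (toOverCat T) L) (BasedFunctor.comp (BasedFunctor.comp c e) (FibCat.fpFst z f)) from rfl,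
      spMapOfOver_congr (whiskerL (BasedFunctor.comp (toOverCat T) L) (whiskerR ic (FibCat.fpFst z f)))]
    rw [show BasedFunctor.comp (BasedFunctor.comp (toOverCat T) L) (BasedFunctor.comp (BasedFunctor.id _) (FibCat.fpFst z f)) =
      BasedFunctor.comp (toOverCat T) (overMap φ) from rfl, spMapOfOver_overMap, spMapOfOver_toOverCat, Category.id_comp]
  · rw [sndMap, ← spMap_comp,
      show BasedFunctor.comp Ψ (BasedFunctor.comp e (FibCat.fpSnd z f)) =
        BasedFunctor.comp (BasedFunctor.comp (toOverCat T) L) (BasedFunctor.comp (BasedFunctor.comp c e) (FibCat.fpSnd z f)) from rfl,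
      spMap_congr (whiskerL (BasedFunctor.comp (toOverCat T) L) (whiskerR ic (FibCat.fpSnd z f)))]
    exact spMap_ofSpMap g

variable (e) in
/-- A point of the representing space gives a lift of the object by the corresponding point. -/
theorem iso_of_point {T : Over S} (φ : T ⟶ U₀) (σ : (AlgSp.yon S).obj T ⟶ F)
    (hσ : σ ≫ spMapOfOver (BasedFunctor.comp e (FibCat.fpFst z f)) = (AlgSp.yon S).map φ) :
    Nonempty (BasedFunctor.comp (BasedFunctor.comp (ofOverCat T) (ofSpMap (σ ≫ sndMap e))) f ≅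
      BasedFunctor.comp (overMap φ) z) := by
  let L := BasedFunctor.comp (BasedFunctor.comp (ofOverCat T) (ofSpMap σ)) e
  have i : BasedFunctor.comp L (FibCat.fpFst z f) ≅ overMap φ := by
    refine (show BasedFunctor.comp L (FibCat.fpFst z f) ≅ _ from whiskerL (ofOverCat T) (whiskerL (ofSpMap σ) (overFactor (BasedFunctor.comp e (FibCat.fpFst z f))))) ≪≫ eqToIso ?_
    show BasedFunctor.comp (ofOverCat T) (BasedFunctor.comp (ofSpMap σ) (BasedFunctor.comp (ofSpMap _) (toOverCat U₀))) = _
    rw [show BasedFunctor.comp (ofSpMap σ) (BasedFunctor.comp (ofSpMap (spMapOfOver (BasedFunctor.comp e (FibCat.fpFst z f)))) (toOverCat U₀)) =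
      BasedFunctor.comp (ofSpMap (σ ≫ spMapOfOver (BasedFunctor.comp e (FibCat.fpFst z f)))) (toOverCat U₀) from rfl, hσ]
    rfl
  let j : BasedFunctor.comp L (FibCat.fpSnd z f) ≅ BasedFunctor.comp (ofOverCat T) (ofSpMap (σ ≫ sndMap e)) :=
    whiskerL (ofOverCat T) (whiskerL (ofSpMap σ) (isoOfSpMap (BasedFunctor.comp e (FibCat.fpSnd z f))))
  exact ⟨whiskerR j.symm f ≪≫ (whiskerL L (FibCat.fpIso z f)).symm ≪≫ whiskerR i z⟩

end Groth.L24.Hensel
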